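import Cfsg.Agent.Lib.RealCls.Basic
import Cfsg.Agent.Lib.D4.L34

set_option autoImplicit false

namespace CfsgLib.RealCls

open Subgroup Cfsg CfsgLib.D4.L34 CfsgLib.Classical
open scoped MatrixGroups

theorem wit_l34 {F : Type} [Field F] [Fintype F] (hF : Fintype.card F = 4) :
    Wit (Matrix.ProjectiveSpecialLinearGroup (Fin 3) F) 5 := by
  refine Wit.congr (pslMapEquiv (FiniteField.ringEquivOfCardEq (card_GF4.trans hF.symm))) ?_
  have : Fact (Nat.Prime 5) := ⟨by norm_num⟩
  have h5 : orderOf (mk g5) = 5 := order_mk (x := g5) (y := k5) (by decide +kernel)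
  have x5 : mk g5 ^ 5 = 1 := h5 ▸ pow_orderOf_eq_one _
  have x1 : mk g5 ≠ 1 := fun e => by rw [e, orderOf_one] at h5; omega
  refine wit_of_odd (x := mk g5) ⟨x1, by rw [h5]; decide, (five _ x5 x1).1⟩ (fun e e2 c => ?_)
    (by rw [Mathieu.card_psl3_of_card card_GF4]; norm_num)
  have key : ∀ k, (e * mk g5) ^ k = 1 → 5 ∣ 2 * k := fun k hk => by
    rw [← h5, orderOf_dvd_iff_pow_eq_one]
    have := congrArg (· ^ 2) hk
    simp only [← pow_mul, one_pow] at this
    rwa [mul_comm k, Commute.mul_pow c, pow_mul e, pow_two e, e2, one_pow, one_mul] at this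
  rcases pw (e * mk g5) with h | h | h | h
  · exact absurd (key _ h) (by norm_num)
  · exact absurd (key _ h) (by norm_num)
  · rw [Commute.mul_pow c, x5, mul_one, show e ^ 5 = e * e * (e * e) * e by simp only [pow_succ, pow_zero, one_mul, mul_assoc],
      e2] at h
    simpa using h
  · exact absurd (key _ h) (by norm_num)

end CfsgLib.RealCls
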