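import Cfsg.Agent.Lib.RealCls.W1
import Cfsg.Agent.Lib.RealCls.W2
import Cfsg.Agent.Lib.RealCls.W3
import Cfsg.Agent.Lib.CpTp.Basic
import Cfsg.Agent.S2086
import Cfsg.Agent.S2088
import Cfsg.Agent.S2089
import Cfsg.Agent.S2092
import Cfsg.Agent.S2111
import Cfsg.Agent.S2112
import Cfsg.Agent.S2116
import Cfsg.Agent.S0892
import Cfsg.Agent.S0252
import Cfsg.Agent.S0254

set_option autoImplicit false

namespace CfsgLib.RealCls

open Subgroup Cfsg

variable {K : Type*} [Group K] [Finite K]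

omit [Finite K] in
theorem bc2_mult (hq : IsQuasisimple K) {Q : Type*} [Group Q] (e : K ⧸ center K ≃* Q) {n : ℕ}
    (h : HasCyclicSchurMultiplier Q n) : Nat.card (center K) ∣ n :=
  (CpTp.card_center_dvd hq.1 e h).trans (Nat.card_zmod n).dvd

theorem bc2_psl2 (hq : IsQuasisimple K) {F : Type} [Field F] [Fintype F] (hF : 4 ≤ Fintype.card F)
    (e : K ⧸ center K ≃* Matrix.ProjectiveSpecialLinearGroup (Fin 2) F) : ¬ 4 ∣ Nat.card (center K) := fun h => by
  by_cases h4 : Fintype.card F = 4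
  · have := Cfsg.Agent.S0892.result 5 (by decide) (by decide) (by decide) (center K) le_rfl
      (hq.1.commutator_eq_top ▸ le_top) (e.trans (Cfsg.Agent.S0252.result h4).some)
    have := Nat.le_of_dvd Nat.card_pos h
    omega
  by_cases h9 : Fintype.card F = 9
  · exact absurd (h.trans (bc2_mult hq (e.trans (Cfsg.Agent.S0254.result h9).some)
      (Cfsg.Agent.S2116.result 6 (.inl rfl)))) (by decide)
  · exact absurd ((h.trans (bc2_mult hq e (Cfsg.Agent.S2086.result rfl 2 le_rfl (fun _ => hF)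
      (by simp [h4, h9])))).trans (Nat.gcd_dvd_left _ _)) (by decide)

theorem blist_false (hq : IsQuasisimple K) (hz : IsPGroup 2 (center K)) (h1 : center K ≠ ⊥)
    (hB : BList (K ⧸ center K)) (hidx : ∀ k, Wit (K ⧸ center K) k → 2 ^ k ∣ Nat.card (center K)) : False := by
  have h2 : 2 ∣ Nat.card (center K) := by
    obtain ⟨m, hm⟩ := IsPGroup.iff_card.1 hz
    exact hm ▸ dvd_pow_self 2 fun k => h1 (card_eq_one.1 (by rw [hm, k, pow_zero]))
  have h3 : ∀ {n}, ¬ Nat.card (center K) ∣ Nat.gcd 3 n := fun k =>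
    absurd ((h2.trans k).trans (Nat.gcd_dvd_left _ _)) (by decide)
  rcases hB with ⟨F, _, _, n, hn, hF, h⟩ | ⟨F, _, _, m, hm, hF, ⟨e⟩⟩ | ⟨F, _, _, n, hn, hF, ⟨e⟩⟩ |
    ⟨F, _, _, n, hF, -, ⟨e⟩⟩
  · have h4 : 4 ≤ Fintype.card F := hF ▸ Nat.pow_le_pow_right two_pos hn
    rcases h with ⟨⟨e⟩⟩ | ⟨⟨e⟩⟩ | ⟨⟨e⟩⟩
    · exact bc2_psl2 hq h4 e (hidx 2 ((wit_psl2 h4).congr e.symm))
    · by_cases h5 : Fintype.card F = 4
      · have := (hidx 5 ((wit_l34 h5).congr e.symm)).trans (CpTp.card_center_dvd hq.1 e (Cfsg.Agent.S2088.result h5))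
        simp at this
      · exact h3 (bc2_mult hq e (Cfsg.Agent.S2086.result rfl 3 (by decide) (by simp) (by simp [h5]; omega)))
    · have := (h2.trans (bc2_mult hq e (Cfsg.Agent.S2092.result rfl 2 le_rfl (fun _ => by omega) (by simp)))).trans
        (Nat.gcd_dvd_right _ _)
      have : 2 ∣ Fintype.card F := hF ▸ dvd_pow_self 2 (by omega)
      omega
  · obtain rfl | hm : m = 1 ∨ 2 ≤ m := by omega
    · have := (hidx 3 ((wit_sz8 hF).congr e.symm)).trans (CpTp.card_center_dvd hq.1 e (Cfsg.Agent.S2112.result hF))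
      simp at this
    · exact absurd (h2.trans (bc2_mult hq e (Cfsg.Agent.S2111.result hm hF))) (by decide)
  · have := Nat.pow_le_pow_right two_pos hn
    exact h3 (bc2_mult hq e (Cfsg.Agent.S2089.result 3 _ hF le_rfl (by omega) (by simp)))
  · exact bc2_psl2 hq hF e (hidx 2 ((wit_psl2 hF).congr e.symm))

end CfsgLib.RealCls
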