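import Cfsg.Agent.Lib.RealCls.QS2
import Cfsg.Agent.Lib.RealCls.W1
import Cfsg.Agent.Lib.RealCls.W2
import Cfsg.Agent.Lib.TwoGrp.Pres
import Cfsg.Agent.S0483

set_option autoImplicit false

namespace CfsgLib.RealCls

open Subgroup Cfsg

/-- a 2-group with an inverted subgroup of index 2 having a unique involution is dihedral -/
theorem dihedral_of {X : Type*} [Group X] [Finite X] (hX : IsPGroup 2 X) (R : Subgroup X) (s r : X)
    (hs : s ∉ R) (hs2 : s * s = 1) (hR : ∀ p : X, p ∈ R ∨ s * p ∈ R) (hr : r ∈ R) (hr1 : r ≠ 1)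
    (hinv : ∀ g ∈ R, s * g * s⁻¹ = g⁻¹) (huniq : ∀ g ∈ R, g * g = 1 → g = 1 ∨ g * r = 1) :
    ∃ n : ℕ, 2 ≤ n ∧ Nonempty (X ≃* DihedralGroup n) := by
  have comm : ∀ a ∈ R, ∀ b ∈ R, Commute a b := fun a ha b hb => by
    have := hinv _ (R.mul_mem ha hb)
    rw [← conj_mul, hinv a ha, hinv b hb, ← mul_inv_rev] at this
    exact (inv_injective this).symm
  obtain ⟨g, hg, hm⟩ := Set.exists_max_image (R : Set X) orderOf (Set.toFinite _) ⟨1, R.one_mem⟩
  obtain ⟨m, hm2⟩ := IsPGroup.iff_orderOf.1 hX g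
  have h2 : 2 ≤ orderOf g := le_trans (by
    have := orderOf_pos r
    have := orderOf_eq_one_iff.not.2 hr1
    omega) (hm r hr)
  have hrg : r ∈ zpowers g := by
    obtain _ | m := m
    · omega
    rcases huniq (g ^ 2 ^ m) (pow_mem hg _) (by rw [← pow_add, ← two_mul, ← pow_succ', ← hm2, pow_orderOf_eq_one])
      with e | e
    · exact absurd (Nat.le_of_dvd (by positivity) (hm2 ▸ orderOf_dvd_of_pow_eq_one e))
        (Nat.pow_lt_pow_succ one_lt_two).not_ge
    · exact eq_inv_of_mul_eq_one_right e ▸ inv_mem (pow_mem (mem_zpowers g) _)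
  have key : ∀ k, ∀ h ∈ R, h ^ 2 ^ k = 1 → h ∈ zpowers g := fun k => by
    induction k with
    | zero => intro h _ e; rw [show h = 1 by simpa using e]; exact one_mem _
    | succ k ih =>
      intro h hh e
      obtain ⟨i, hi⟩ := (mem_powers_iff_mem_zpowers.2 (ih (h ^ 2) (pow_mem hh 2) (by rw [← pow_mul, ← pow_succ', e])))
      replace hi : g ^ i = h ^ 2 := hi
      obtain ⟨j, rfl⟩ | o := i.even_or_odd
      · have c := (comm h hh _ (pow_mem hg j)).inv_right
        have m1 := pow_mem (mem_zpowers g) j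
        rcases huniq (h * (g ^ j)⁻¹) (mul_mem hh (inv_mem (pow_mem hg j))) (by
          rw [← sq, c.mul_pow, ← hi, pow_add, sq]; group) with e | e
        · exact mul_inv_eq_one.1 e ▸ m1
        · exact mul_inv_eq_iff_eq_mul.1 (eq_inv_of_mul_eq_one_left e) ▸ mul_mem (inv_mem hrg) m1
      · have h3 : orderOf (h ^ 2) = orderOf g := by
          rw [← hi, Nat.Coprime.orderOf_pow (hm2 ▸ (Nat.coprime_two_left.2 o).pow_left m)]
        obtain ⟨l, hl⟩ := IsPGroup.iff_orderOf.1 hX h
        have h4 := hm h hh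
        obtain _ | l := l
        · rw [orderOf_eq_one_iff.1 hl]; exact one_mem _
        rw [orderOf_pow_of_dvd two_ne_zero (hl ▸ dvd_pow_self 2 l.succ_ne_zero)] at h3
        omega
  have key' : ∀ h ∈ R, h ∈ zpowers g := fun h hh => let ⟨k, hk⟩ := hX h; key k h hh hk
  obtain ⟨e⟩ := TwoGrp.nonempty_mulEquiv_dihedral (D := ⊤) rfl hs2 (hinv g hg) (fun k => hs (zpowers_le.2 hg k))
    fun p => iff_of_true trivial (by
      rcases hR p with h | h
      · exact (key' p h).imp fun i e => .inl e.symm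
      · obtain ⟨i, hi⟩ := key' _ (inv_mem h)
        refine ⟨i, .inr ?_⟩
        rw [show g ^ i = _ from hi, ← hinv _ h, ← mul_assoc, hs2, one_mul, inv_mul_cancel_right])
  exact ⟨_, h2, ⟨topEquiv.symm.trans e⟩⟩

variable {G : Type*} [Group G] [Finite G] {d : ℕ}

theorem QB.false (Q : QB G d) : False := by
  obtain ⟨P, R, s, r, h1, h2, h3, h4, h5, h6, h7, h8, h9, h10⟩ := Q.struct
  have := Q.qs.1
  have := Q.qs.2
  let π := QuotientGroup.mk' (center G)
  let S := P.mapSurjective (QuotientGroup.mk'_surjective (center G))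
  have mR : ∀ p, π p ∈ R.map π ↔ p ∈ R := fun p => by
    rw [← mem_comap, comap_map_eq_self (by rwa [QuotientGroup.ker_mk'])]
  have one : ∀ p, π p = 1 ↔ p ∈ center G := fun p => QuotientGroup.eq_one_iff p
  obtain ⟨n, hn, e⟩ := dihedral_of S.2 ((R.map π).subgroupOf S) ⟨π s, mem_map_of_mem π h3⟩ ⟨π r, mem_map_of_mem π (h1 h7)⟩
    (fun k => h4 ((mR s).1 k)) (Subtype.ext ((one _).2 h5))
    (by rintro ⟨_, p, hp, rfl⟩; exact (h6 p hp).imp (mR _).2 (mR _).2) ((mR r).2 h7)
    (fun k => h8 ((one r).1 (congrArg Subtype.val k)))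
    (by rintro ⟨_, p, hp, rfl⟩ k; exact eq_inv_of_mul_eq_one_left (Subtype.ext ((one _).2 (h9 p ((mR p).1 k)))))
    (by
      rintro ⟨_, p, hp, rfl⟩ k k'
      exact (h10 p ((mR p).1 k) ((one _).1 (congrArg Subtype.val k'))).imp (fun k => Subtype.ext ((one _).2 k))
        fun k => Subtype.ext ((one _).2 k))
  have hO : oddCore (G ⧸ center G) = ⊥ := (IsSimpleGroup.eq_bot_or_eq_top_of_normal _ inferInstance).resolve_right fun k => by
    have o := Core.odd_card_oddCore (G ⧸ center G)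
    rw [show pPrimeCore 2 (G ⧸ center G) = ⊤ from k, card_top] at o
    refine o.not_two_dvd_nat (Dvd.dvd.trans ?_ (S : Subgroup (G ⧸ center G)).card_subgroup_dvd_card)
    rw [Nat.card_congr e.some.toEquiv, DihedralGroup.nat_card]
    exact dvd_mul_right _ _
  have f := (QuotientGroup.quotientMulEquivOfEq hO).trans QuotientGroup.quotientBot
  have hW : Wit (G ⧸ center G) 2 := by
    rcases Cfsg.Agent.S0483.result S n hn e with ⟨F, _, _, -, hF, ⟨k⟩⟩ | ⟨⟨k⟩⟩
    · exact (wit_psl2 hF).congr (k.symm.trans f)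
    · exact wit_a7.congr (k.symm.trans f)
  obtain ⟨x, hx, h4⟩ := wit_lift Q.z2 hW
  have k := congrArg (·.factorization 2) (centralizer ({x} : Set G)).card_mul_index
  have i0 := (centralizer ({x} : Set G)).index_ne_zero_of_finite
  simp only [Nat.factorization_mul Nat.card_pos.ne' i0, Finsupp.add_apply, Q.ha, Q.hyp x hx.2.2 hx.not_center] at k
  have := (Nat.prime_two.pow_dvd_iff_le_factorization i0).1 h4
  omega

end CfsgLib.RealCls
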